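import Mathlib
import Cfsg.Prelude.Def_MonsterType

/-! Elementary facts about extraspecial 2-subgroups that are normal in the centralizer of their centre. -/
set_option autoImplicit false

namespace Cfsg.Agent.Lib.LargeExtra
open Cfsg

variable {G : Type*} [Group G] [Finite G]

abbrev Z (Q : Subgroup G) : Subgroup G := (Subgroup.center ↥Q).map Q.subtype

theorem Z_le (Q : Subgroup G) : Z Q ≤ Q := Subgroup.map_subtype_le _

theorem card_Z {Q : Subgroup G} (h : IsExtraspecial 2 ↥Q) : Nat.card (Z Q) = 2 := by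
  rw [Subgroup.card_map_of_injective Q.subtype_injective]; exact h.2

theorem exists_z {Q : Subgroup G} (h : IsExtraspecial 2 ↥Q) :
    ∃ z : G, z ∈ Z Q ∧ orderOf z = 2 ∧ ∀ x ∈ Z Q, x = 1 ∨ x = z := by
  have hc := card_Z h
  obtain ⟨z, hz, huniq⟩ := (Nat.card_eq_two_iff' (1 : Z Q)).mp hc
  refine ⟨z, z.2, ?_, fun x hx => ?_⟩
  · have h2 : (z : G) ^ 2 = 1 := by
      have := pow_card_eq_one' (x := z); rw [hc] at this
      exact_mod_cast congrArg Subtype.val this
    exact orderOf_eq_prime h2 (fun e => hz (Subtype.ext e))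
  · by_cases hx1 : x = 1
    · exact Or.inl hx1
    · exact Or.inr (congrArg Subtype.val (huniq ⟨x, hx⟩ (fun e => hx1 (congrArg Subtype.val e))))

/-- A subgroup of odd order and a 2-subgroup meet trivially. -/
theorem eq_one_of_mem_odd {K P : Subgroup G} (hK : Odd (Nat.card K)) (hP : IsPGroup 2 P) {x : G}
    (hxK : x ∈ K) (hxP : x ∈ P) : x = 1 := by
  obtain ⟨k, hk⟩ := hP ⟨x, hxP⟩
  have h1 : orderOf x ∣ 2 ^ k := orderOf_dvd_of_pow_eq_one (congrArg Subtype.val hk)
  have h2 : orderOf x ∣ Nat.card K := Subgroup.orderOf_mk x hxK ▸ orderOf_dvd_natCard (⟨x, hxK⟩ : K)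
  have h3 := Nat.dvd_gcd h1 h2
  rw [((Nat.coprime_two_left.mpr hK).pow_left k).gcd_eq_one, Nat.dvd_one, orderOf_eq_one_iff] at h3
  exact h3

theorem conj_mem {K : Subgroup G} {q : G} (hq : q ∈ Subgroup.normalizer (K : Set G)) {k : G} (hk : k ∈ K) :
    q * k * q⁻¹ ∈ K := (Subgroup.mem_normalizer_iff.mp hq k).mp hk

/-- An element of an odd subgroup normalized by `Q` that centralizes the centre of `Q` is trivial. -/
theorem eq_one_of_commute {Q K : Subgroup G} (hL1 : IsExtraspecial 2 ↥Q)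
    (hL2 : Subgroup.centralizer (Q : Set G) = Z Q)
    (hL3 : Subgroup.centralizer (Z Q : Set G) ≤ Subgroup.normalizer (Q : Set G))
    (hK : Odd (Nat.card K)) (hQK : Q ≤ Subgroup.normalizer (K : Set G)) {z k : G} (hk : k ∈ K)
    (hzall : ∀ x ∈ Z Q, x = 1 ∨ x = z) (hzk : z * k = k * z) : k = 1 := by
  have hkC : k ∈ Subgroup.centralizer (Z Q : Set G) := by
    rw [Subgroup.mem_centralizer_iff]
    intro x hx
    rcases hzall x hx with rfl | rfl
    · simp
    · exact hzk
  have hkN := hL3 hkC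
  have hQP : IsPGroup 2 Q := hL1.1.1
  have hkQ : k ∈ Subgroup.centralizer (Q : Set G) := by
    rw [Subgroup.mem_centralizer_iff]
    intro q hq
    have hc : q * k * q⁻¹ * k⁻¹ = 1 := by
      refine eq_one_of_mem_odd hK hQP (mul_mem (conj_mem (hQK hq) hk) (inv_mem hk)) ?_
      have h : k * q⁻¹ * k⁻¹ ∈ Q := conj_mem hkN (inv_mem hq)
      have := mul_mem hq h
      simpa [commutatorElement_def, mul_assoc] using this
    exact commutatorElement_eq_one_iff_mul_comm.mp hc
  rw [hL2] at hkQ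
  exact eq_one_of_mem_odd hK hQP hk (Z_le Q hkQ)

/-- An element of `K` commutes with `z` as soon as `z` lies in a 2-group normalized by it. -/
theorem commute_of_mem_two_group {K P : Subgroup G} (hK : Odd (Nat.card K)) (hP : IsPGroup 2 P) {z k : G}
    (hz : z ∈ Subgroup.normalizer (K : Set G)) (hk : k ∈ K) (hzP : z ∈ P) (hkP : k * z⁻¹ * k⁻¹ ∈ P) :
    z * k = k * z := by
  refine commutatorElement_eq_one_iff_mul_comm.mp (eq_one_of_mem_odd hK hP (mul_mem (conj_mem hz hk) (inv_mem hk)) ?_)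
  have := mul_mem hzP hkP
  simpa [commutatorElement_def, mul_assoc] using this

end Cfsg.Agent.Lib.LargeExtra
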